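import Cfsg.Agent.Lib.Helper29.SuzA.Data

set_option autoImplicit false
set_option Elab.async false

namespace Cfsg.Agent.Lib.Helper29.SuzA

open Cfsg.Agent.Lib.Helper29.TcTrace Cfsg.Agent.Lib.Helper29.TcCert Cfsg.Agent.Lib.Helper29.TcPerm

theorem lblk_0 : chkPBlk P 4 15 256 1782 0 0x26364616421262263433126232656414323126423126361642312632126231263264126326426465263126326432326126423126326426326412632646526465652364264652626226326465364652646536541646566522653263264652465166542655265364322646515265364253641266525364142265342364326312d0 = true := by decide +kernel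
theorem lblk_1 : chkPBlk P 4 15 256 1782 1 0x5623126564132616422631126226364243312623266412631323126463323123126654265364313231262653642433126126311266522653642431265641432312624231266412623126564112642262636226364131261264232312631312626536424323126564143312626226536413126422312612312642263126421263 = true := by decide +kernel
theorem lblk_2 : chkPBlk P 4 15 256 1782 2 0x6464253423432313124266443126542323121264331262653642162664131266323126112226631524323126431226364616263263143231263264214323132312266531266522653646433432312312665465341331262312662312264651126652265643134331262653642534234323126313432312263642326143312626 = true := by decide +kernel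
theorem lblk_3 : chkPBlk P 4 15 256 1782 3 0x4125342631324321331226432312564126314323354243231212643621263643326143231262131226615342631432315432313122662626616426354263132312615314322313122632265664236536443426314323143231226656655344323143231224331364231231262564242432312312662653556414254263132312 = true := by decide +kernel
theorem lblk_4 : chkPBlk P 4 15 256 1782 4 0x4263143234265343421263226653443636654364263263123424321526566333233653424315243124331225436416423254233321312212362653641642564164232343312354314313226364642543631323426342312264342631432233344331314323126416153424331432312266653642662632631432312625641556 = true := by decide +kernel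
theorem lblk_5 : chkPBlk P 4 15 256 1782 5 0x2332312656412126426634231262533326536434233126564112642432312642126363644533265644326424331264212633126326464655343264232633126326426465654232632642646565412646565426541d62254334243434433463464344134234334434112422653465341264233124436424233342326416423423 = true := by decide +kernel
theorem lblk_6 : chkPBlk P 4 15 256 1782 6 0x222323331333326441222332363311243122131232313226664234234343223432313112616423631223164231214321212634243231231266426532343231314323126212626312131322264366432123126526534331262653644223323126232312656412646321231523126652652423312626536431265641 = true := by decide +kernel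
theorem lo_0_1 : ∀ b, 0 ≤ b → b < 1 → ∃ J, chkPBlk P 4 15 256 1782 b J = true := fun b h1 h2 => by
  have hb : b = 0 := Nat.le_antisymm (Nat.le_of_lt_succ h2) h1
  subst hb; exact ⟨_, lblk_0⟩
theorem lo_1_2 : ∀ b, 1 ≤ b → b < 2 → ∃ J, chkPBlk P 4 15 256 1782 b J = true := fun b h1 h2 => by
  have hb : b = 1 := Nat.le_antisymm (Nat.le_of_lt_succ h2) h1
  subst hb; exact ⟨_, lblk_1⟩
theorem lo_2_3 : ∀ b, 2 ≤ b → b < 3 → ∃ J, chkPBlk P 4 15 256 1782 b J = true := fun b h1 h2 => by
  have hb : b = 2 := Nat.le_antisymm (Nat.le_of_lt_succ h2) h1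
  subst hb; exact ⟨_, lblk_2⟩
theorem lo_1_3 : ∀ b, 1 ≤ b → b < 3 → ∃ J, chkPBlk P 4 15 256 1782 b J = true := fun b h1 h2 =>
  if h : b < 2 then lo_1_2 b h1 h else lo_2_3 b (Nat.le_of_not_lt h) h2
theorem lo_0_3 : ∀ b, 0 ≤ b → b < 3 → ∃ J, chkPBlk P 4 15 256 1782 b J = true := fun b h1 h2 =>
  if h : b < 1 then lo_0_1 b h1 h else lo_1_3 b (Nat.le_of_not_lt h) h2
theorem lo_3_4 : ∀ b, 3 ≤ b → b < 4 → ∃ J, chkPBlk P 4 15 256 1782 b J = true := fun b h1 h2 => by
  have hb : b = 3 := Nat.le_antisymm (Nat.le_of_lt_succ h2) h1
  subst hb; exact ⟨_, lblk_3⟩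
theorem lo_4_5 : ∀ b, 4 ≤ b → b < 5 → ∃ J, chkPBlk P 4 15 256 1782 b J = true := fun b h1 h2 => by
  have hb : b = 4 := Nat.le_antisymm (Nat.le_of_lt_succ h2) h1
  subst hb; exact ⟨_, lblk_4⟩
theorem lo_3_5 : ∀ b, 3 ≤ b → b < 5 → ∃ J, chkPBlk P 4 15 256 1782 b J = true := fun b h1 h2 =>
  if h : b < 4 then lo_3_4 b h1 h else lo_4_5 b (Nat.le_of_not_lt h) h2
theorem lo_5_6 : ∀ b, 5 ≤ b → b < 6 → ∃ J, chkPBlk P 4 15 256 1782 b J = true := fun b h1 h2 => by
  have hb : b = 5 := Nat.le_antisymm (Nat.le_of_lt_succ h2) h1
  subst hb; exact ⟨_, lblk_5⟩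
theorem lo_6_7 : ∀ b, 6 ≤ b → b < 7 → ∃ J, chkPBlk P 4 15 256 1782 b J = true := fun b h1 h2 => by
  have hb : b = 6 := Nat.le_antisymm (Nat.le_of_lt_succ h2) h1
  subst hb; exact ⟨_, lblk_6⟩
theorem lo_5_7 : ∀ b, 5 ≤ b → b < 7 → ∃ J, chkPBlk P 4 15 256 1782 b J = true := fun b h1 h2 =>
  if h : b < 6 then lo_5_6 b h1 h else lo_6_7 b (Nat.le_of_not_lt h) h2
theorem lo_3_7 : ∀ b, 3 ≤ b → b < 7 → ∃ J, chkPBlk P 4 15 256 1782 b J = true := fun b h1 h2 =>
  if h : b < 5 then lo_3_5 b h1 h else lo_5_7 b (Nat.le_of_not_lt h) h2
theorem lo_0_7 : ∀ b, 0 ≤ b → b < 7 → ∃ J, chkPBlk P 4 15 256 1782 b J = true := fun b h1 h2 =>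
  if h : b < 3 then lo_0_3 b h1 h else lo_3_7 b (Nat.le_of_not_lt h) h2

end Cfsg.Agent.Lib.Helper29.SuzA
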